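import Mathlib
import Groth.Agent.RedTensor.Basic

/-!
Tests for geometric reducedness of algebras over a field.
-/

set_option autoImplicit false
set_option linter.style.haveILetI false
universe u
open TensorProduct

namespace Groth.Agent.GeomRedFieldLib

variable {k S : Type u} [Field k] [CommRing S] [Algebra k S]

/-- Reduced tensor geometrically reduced is reduced. -/
theorem isReduced_tensor (R : Type u) [CommRing R] [Algebra k R] [IsReduced R]
    (h : ∀ (L : Type u) [Field L] [Algebra k L], IsReduced (L ⊗[k] S)) : IsReduced (R ⊗[k] S) := by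
  classical
  refine ⟨fun z hz => ?_⟩
  let b := Module.Free.chooseBasis k S
  refine (TensorProduct.equivFinsuppOfBasisRight b).injective (Finsupp.ext fun i => ?_)
  rw [map_zero, Finsupp.zero_apply]
  refine (mem_nilradical.1 ?_).eq_zero
  rw [nilradical_eq_sInf, Submodule.mem_sInf]
  intro p hp
  have : Ideal.IsPrime p := hp
  let g : R →ₐ[k] FractionRing (R ⧸ p) :=
    (IsScalarTower.toAlgHom k (R ⧸ p) (FractionRing (R ⧸ p))).comp (Ideal.Quotient.mkₐ k p)
  haveI := h (FractionRing (R ⧸ p))
  have h0 : Algebra.TensorProduct.map g (AlgHom.id k S) z = 0 := (hz.map _).eq_zero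
  have key : ∀ y : R ⊗[k] S, TensorProduct.equivFinsuppOfBasisRight b (Algebra.TensorProduct.map g (AlgHom.id k S) y) i =
      g (TensorProduct.equivFinsuppOfBasisRight b y i) := by
    intro y
    induction y with
    | zero => simp
    | add p q hp hq => simp only [map_add, Finsupp.add_apply, hp, hq]
    | tmul p q => simp [Algebra.smul_def]
  have h1 := key z
  rw [h0, map_zero, Finsupp.zero_apply] at h1
  have h2 : algebraMap (R ⧸ p) (FractionRing (R ⧸ p)) (Ideal.Quotient.mk p _) = algebraMap (R ⧸ p) (FractionRing (R ⧸ p)) 0 :=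
    h1.symm.trans (map_zero _).symm
  exact Ideal.Quotient.eq_zero_iff_mem.1 (IsFractionRing.injective (R ⧸ p) _ h2)

theorem isReduced_extend {P : Type u} [Field P] [Algebra k P] [PerfectField P] (Ω : Type u) [Field Ω] [Algebra k Ω]
    [Algebra P Ω] [IsScalarTower k P Ω] [IsReduced (P ⊗[k] S)] : IsReduced (Ω ⊗[k] S) := by
  haveI : IsReduced (Ω ⊗[P] (P ⊗[k] S)) := RedTensor.isReduced_tensor P Ω (P ⊗[k] S)
  exact isReduced_of_injective (Algebra.TensorProduct.cancelBaseChange k P Ω Ω S).symm (AlgEquiv.injective _)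

theorem forall_of_isGeometricallyReduced [Algebra.IsGeometricallyReduced k S] (K : Type u) [Field K] [Algebra k K] :
    IsReduced (K ⊗[k] S) := by
  let Ω := AlgebraicClosure K
  let kb := AlgebraicClosure k
  let ι : kb →ₐ[k] Ω := IsAlgClosed.lift
  letI : Algebra kb Ω := ι.toRingHom.toAlgebra
  haveI : IsScalarTower k kb Ω := IsScalarTower.of_algHom ι
  haveI : IsReduced (kb ⊗[k] S) := (Algebra.isGeometricallyReduced_field_iff k S).1 inferInstance
  haveI : IsReduced (Ω ⊗[kb] (kb ⊗[k] S)) := RedTensor.isReduced_tensor kb Ω (kb ⊗[k] S)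
  haveI : IsReduced (Ω ⊗[k] S) :=
    isReduced_of_injective (Algebra.TensorProduct.cancelBaseChange k kb Ω Ω S).symm (AlgEquiv.injective _)
  exact isReduced_of_injective (Algebra.TensorProduct.map (IsScalarTower.toAlgHom k K Ω) (AlgHom.id k S))
    (Module.Flat.rTensor_preserves_injective_linearMap (M := S) (IsScalarTower.toAlgHom k K Ω).toLinearMap
      (algebraMap K Ω).injective)

/-- Finite purely inseparable extensions detect geometric reducedness. -/
theorem isGeometricallyReduced_of_purelyInseparable
    (h : ∀ (k' : Type u) [Field k'] [Algebra k k'] [Module.Finite k k'] [IsPurelyInseparable k k'], IsReduced (k' ⊗[k] S)) :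
    Algebra.IsGeometricallyReduced k S := by
  rw [Algebra.isGeometricallyReduced_field_iff]
  let kb := AlgebraicClosure k
  let P := perfectClosure k kb
  haveI : PerfectField P := inferInstance
  haveI : IsReduced (S ⊗[k] P) := by
    refine IsReduced.tensorProduct_of_flat_of_forall_fg fun B hB => ?_
    obtain ⟨s, rfl⟩ := hB
    let L := IntermediateField.adjoin k (s : Set P)
    haveI : FiniteDimensional k L := IntermediateField.finiteDimensional_adjoin fun x _ => Algebra.IsIntegral.isIntegral x
    haveI : IsPurelyInseparable k L := inferInstance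
    haveI := h L
    haveI : IsReduced (S ⊗[k] L) := isReduced_of_injective (Algebra.TensorProduct.comm k S L) (AlgEquiv.injective _)
    exact isReduced_of_injective (Algebra.TensorProduct.map (AlgHom.id k S) (Subalgebra.inclusion
        (IntermediateField.algebra_adjoin_le_adjoin k _)))
      (Module.Flat.lTensor_preserves_injective_linearMap _ (Subalgebra.inclusion_injective (IntermediateField.algebra_adjoin_le_adjoin k _)))
  haveI : IsReduced (P ⊗[k] S) := isReduced_of_injective (Algebra.TensorProduct.comm k P S) (AlgEquiv.injective _)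
  exact isReduced_extend (P := P) kb

theorem isReduced_tensor_separable (k' K : Type u) [Field k'] [Algebra k k'] [Algebra.IsSeparable k k']
    [Field K] [Algebra k K] : IsReduced (K ⊗[k] k') := by
  refine IsReduced.tensorProduct_of_flat_of_forall_fg fun B hB => ?_
  haveI hfin : Module.Finite k B := by
    haveI : Algebra.IsIntegral k B := Algebra.IsIntegral.of_injective B.val Subtype.val_injective
    haveI : Algebra.FiniteType k B := (Subalgebra.fg_iff_finiteType B).1 hB
    exact Algebra.IsIntegral.finite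
  letI := (Subalgebra.isField_of_algebraic B).toField
  haveI : Algebra.IsSeparable k B := Algebra.IsSeparable.of_algHom k k' B.val
  haveI : Algebra.FormallyEtale k B := (Algebra.FormallyEtale.iff_isSeparable k B).mpr inferInstance
  haveI : Algebra.FinitePresentation k B := Algebra.FinitePresentation.of_finiteType.mp inferInstance
  haveI : Algebra.Etale k B := ⟨inferInstance, inferInstance⟩
  exact EtaleLib.isReduced_of_etale (A := K) (K ⊗[k] B)

theorem exists_sq_factor {K R : Type*} [Field K] [CommRing R] [IsReduced R] [Algebra K R] [Algebra.IsIntegral K R] (x : R) :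
    ∃ y, x = x * x * y := by
  obtain ⟨P, hP, hP0⟩ : ∃ P : Polynomial K, P ≠ 0 ∧ Polynomial.aeval x P = 0 :=
    ⟨minpoly K x, minpoly.ne_zero (Algebra.IsIntegral.isIntegral x), minpoly.aeval K x⟩
  induction hn : P.natDegree using Nat.strong_induction_on generalizing P with
  | _ n ih =>
    have hdec := Polynomial.X_mul_divX_add P
    by_cases h0 : P.coeff 0 = 0
    · rw [h0, map_zero, add_zero] at hdec
      set Q := P.divX with hQ
      have hQ0 : Q ≠ 0 := fun h => hP (by rw [← hdec, h, mul_zero])
      have hdeg : P.natDegree = Q.natDegree + 1 := by rw [← hdec, mul_comm, Polynomial.natDegree_mul_X hQ0]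
      by_cases h1 : Q.coeff 0 = 0
      · have hdecQ := Polynomial.X_mul_divX_add Q
        rw [h1, map_zero, add_zero] at hdecQ
        refine ih Q.natDegree (by omega) Q hQ0 ?_ rfl
        rw [← hdec, ← hdecQ, map_mul, map_mul, Polynomial.aeval_X] at hP0
        rw [← hdecQ, map_mul, Polynomial.aeval_X]
        refine IsReduced.eq_zero _ ⟨2, ?_⟩
        calc (x * Polynomial.aeval x Q.divX) ^ 2 = (x * (x * Polynomial.aeval x Q.divX)) * Polynomial.aeval x Q.divX := by ring
          _ = 0 := by rw [hP0, zero_mul]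
      · have hdecQ := Polynomial.X_mul_divX_add Q
        rw [← hdec, map_mul, Polynomial.aeval_X, ← hdecQ, map_add, map_mul, Polynomial.aeval_X, Polynomial.aeval_C] at hP0
        refine ⟨-(algebraMap K R (Q.coeff 0)⁻¹ * Polynomial.aeval x Q.divX), ?_⟩
        have e : algebraMap K R (Q.coeff 0)⁻¹ * algebraMap K R (Q.coeff 0) = 1 := by
          rw [← map_mul, inv_mul_cancel₀ h1, map_one]
        linear_combination (algebraMap K R (Q.coeff 0)⁻¹) * hP0 - x * e
    · rw [← hdec, map_add, map_mul, Polynomial.aeval_X, Polynomial.aeval_C] at hP0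
      refine ⟨-(algebraMap K R (P.coeff 0)⁻¹ * Polynomial.aeval x P.divX), ?_⟩
      have e : algebraMap K R (P.coeff 0)⁻¹ * algebraMap K R (P.coeff 0) = 1 := by
        rw [← map_mul, inv_mul_cancel₀ h0, map_one]
      linear_combination (x * algebraMap K R (P.coeff 0)⁻¹) * hP0 - x * e

/-- An ideal generated by elements `x ∈ (x²)` in a reduced ring is radical. -/
theorem mem_of_pow_mem {T : Type*} [CommRing T] [IsReduced T] (s : Set T) (hs : ∀ x ∈ s, ∃ y, x = x * x * y) {z : T} {n : ℕ}
    (h : z ^ n ∈ Ideal.span s) : z ∈ Ideal.span s := by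
  classical
  obtain ⟨t, hts, ht⟩ := Submodule.mem_span_finite_of_mem_span h
  choose! y hy using hs
  let u : T := ∏ x ∈ t, (1 - x * y x)
  have hu : 1 - u ∈ Ideal.span s := by
    rw [← Ideal.Quotient.eq_zero_iff_mem, map_sub, map_one, map_prod, Finset.prod_eq_one, sub_self]
    intro x hx
    rw [map_sub, map_one, map_mul, Ideal.Quotient.eq_zero_iff_mem.2 (Ideal.subset_span (hts hx)), zero_mul, sub_zero]
  have h0 : u * z ^ n = 0 := by
    generalize z ^ n = w at ht ⊢
    clear hu
    induction ht using Submodule.span_induction with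
    | mem x hx =>
      rw [show u = (1 - x * y x) * ∏ w ∈ t.erase x, (1 - w * y w) from (Finset.mul_prod_erase t _ hx).symm]
      linear_combination (∏ w ∈ t.erase x, (1 - w * y w)) * hy x (hts hx)
    | zero => rw [mul_zero]
    | add a b _ _ ha hb => rw [mul_add, ha, hb, add_zero]
    | smul r a _ ha => rw [smul_eq_mul, mul_left_comm, ha, mul_zero]
  have h1 : u * z = 0 := IsReduced.eq_zero _ ⟨n + 1, by linear_combination (u ^ n * z) * h0⟩
  have : z = (1 - u) * z := by rw [sub_mul, one_mul, h1, sub_zero]
  rw [this]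
  exact Ideal.mul_mem_right _ _ hu

section

variable {k' A : Type u} [Field k'] [Algebra k k'] [CommRing A] [Algebra k' A] [Algebra k A] [IsScalarTower k k' A]
  [Algebra.IsSeparable k k']

theorem up (h : ∀ (K : Type u) [Field K] [Algebra k' K], IsReduced (K ⊗[k'] A)) (K : Type u) [Field K] [Algebra k K] :
    IsReduced (K ⊗[k] A) := by
  letI : Algebra k' (K ⊗[k] k') := Algebra.TensorProduct.rightAlgebra
  haveI : IsReduced (K ⊗[k] k') := isReduced_tensor_separable k' K
  haveI : IsReduced ((k' ⊗[k] K) ⊗[k'] A) := by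
    haveI : IsReduced (k' ⊗[k] K) := isReduced_of_injective (Algebra.TensorProduct.comm k k' K) (AlgEquiv.injective _)
    exact isReduced_tensor (k := k') (k' ⊗[k] K) h
  haveI : IsReduced (A ⊗[k'] (k' ⊗[k] K)) :=
    isReduced_of_injective (Algebra.TensorProduct.comm k' A (k' ⊗[k] K)) (AlgEquiv.injective _)
  haveI : IsReduced (A ⊗[k] K) :=
    isReduced_of_injective (Algebra.TensorProduct.cancelBaseChange k k' A A K).symm (AlgEquiv.injective _)
  exact isReduced_of_injective (Algebra.TensorProduct.comm k K A) (AlgEquiv.injective _)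

theorem down (h : ∀ (K : Type u) [Field K] [Algebra k K], IsReduced (K ⊗[k] A)) (K : Type u) [Field K] [Algebra k' K] :
    IsReduced (K ⊗[k'] A) := by
  letI : Algebra k K := ((algebraMap k' K).comp (algebraMap k k')).toAlgebra
  haveI : IsScalarTower k k' K := IsScalarTower.of_algebraMap_eq fun _ => rfl
  haveI := h K
  haveI : IsReduced (K ⊗[k] k') := isReduced_tensor_separable k' K
  haveI : Algebra.IsIntegral K (K ⊗[k] k') := inferInstance
  let θ : K ⊗[k] k' →ₐ[k] K ⊗[k] A := Algebra.TensorProduct.map (AlgHom.id k K) (IsScalarTower.toAlgHom k k' A)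
  let s : Set (K ⊗[k] A) := Set.range fun c : k' => θ ((algebraMap k' K c) ⊗ₜ[k] 1 - 1 ⊗ₜ[k] c)
  have hs : ∀ x ∈ s, ∃ y, x = x * x * y := by
    rintro _ ⟨c, rfl⟩
    obtain ⟨y, hy⟩ := exists_sq_factor (K := K) ((algebraMap k' K c) ⊗ₜ[k] (1 : k') - 1 ⊗ₜ[k] c)
    exact ⟨θ y, by rw [← map_mul, ← map_mul, ← hy]⟩
  let J := Ideal.span s
  let π : K ⊗[k] A →ₐ[k] K ⊗[k'] A := Algebra.TensorProduct.lift
    ((Algebra.TensorProduct.includeLeft : K →ₐ[k'] K ⊗[k'] A).restrictScalars k)
    ((Algebra.TensorProduct.includeRight : A →ₐ[k'] K ⊗[k'] A).restrictScalars k) (fun _ _ => Commute.all _ _)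
  let ψ : K ⊗[k'] A →ₐ[k'] (K ⊗[k] A) ⧸ J := Algebra.TensorProduct.lift
    { (Ideal.Quotient.mk J).comp (Algebra.TensorProduct.includeLeftRingHom) with commutes' := fun c => rfl }
    { (Ideal.Quotient.mk J).comp (Algebra.TensorProduct.includeRight : A →ₐ[k] K ⊗[k] A).toRingHom with
      commutes' := fun c => by
        symm
        refine Ideal.Quotient.eq.2 (Ideal.subset_span ⟨c, ?_⟩)
        simp [θ] }
    (fun _ _ => Commute.all _ _)
  have hψ : ∀ x, ψ (π x) = Ideal.Quotient.mk J x := by
    intro x
    induction x using TensorProduct.induction_on with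
    | zero => simp
    | tmul a b =>
      simp [ψ, π]
      rw [← map_mul]; simp
    | add p q hp hq => rw [map_add, map_add, hp, hq, map_add]
  have hπ : ∀ x ∈ J, π x = 0 := fun x hx => by
    refine RingHom.mem_ker.1 ((Ideal.span_le.2 ?_ : J ≤ RingHom.ker π.toRingHom) hx)
    rintro _ ⟨c, rfl⟩
    simp [θ, π]
  refine ⟨fun w hw => ?_⟩
  obtain ⟨z, rfl⟩ : ∃ z, π z = w := by
    clear hw
    induction w using TensorProduct.induction_on with
    | zero => exact ⟨0, map_zero π⟩
    | tmul a b => exact ⟨a ⊗ₜ b, by simp [π]⟩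
    | add p q hp hq =>
      obtain ⟨a, ha⟩ := hp
      obtain ⟨b, hb⟩ := hq
      exact ⟨a + b, by rw [map_add, ha, hb]⟩
  obtain ⟨n, hn⟩ := hw
  refine hπ _ (mem_of_pow_mem s hs (n := n) ?_)
  rw [← Ideal.Quotient.eq_zero_iff_mem, ← hψ, map_pow, hn, map_zero]

end

end Groth.Agent.GeomRedFieldLib
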